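import Groth.Agent.Lib.DCxKFlat.Balance
import Mathlib.Algebra.Homology.Embedding.ExtendHomology

/-! # Balancing of Tor -/

set_option autoImplicit false
universe v v' u u'

open CategoryTheory CategoryTheory.Limits MonoidalCategory HomologicalComplex ZeroObject

attribute [local instance] HasDerivedCategory.standard

namespace GrothLib.TorBal22

section Extend

variable {C : Type u} [Category.{v} C] [Abelian C] {D : Type u'} [Category.{v'} D] [Abelian D]
  (F : C ⥤ D) [F.Additive] {ι ι' : Type} {c : ComplexShape ι} {c' : ComplexShape ι'}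

/-- Components of `mapExtendIso`. -/
noncomputable def mapExtendApp (K : HomologicalComplex C c) :
    ∀ o : Option ι, F.obj (extend.X K o) ≅ extend.X ((F.mapHomologicalComplex c).obj K) o
  | some _ => Iso.refl _
  | none => (F.map_isZero (isZero_zero C)).iso (isZero_zero D)

/-- Applying an additive functor commutes with extension along an embedding. -/
noncomputable def mapExtendIso (K : HomologicalComplex C c) (e : c.Embedding c') :
    (F.mapHomologicalComplex c').obj (K.extend e) ≅ ((F.mapHomologicalComplex c).obj K).extend e :=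
  Hom.isoOfComponents (fun i => mapExtendApp F K (e.r i)) fun i j _ => by
    show (mapExtendApp F K (e.r i)).hom ≫ extend.d _ (e.r i) (e.r j) =
      F.map (extend.d K (e.r i) (e.r j)) ≫ (mapExtendApp F K (e.r j)).hom
    generalize e.r i = o, e.r j = o'
    cases o <;> cases o'
    · simp [extend.d]
    · simp [extend.d]
    · simp [extend.d]
    · exact (Category.id_comp _).trans (Category.comp_id _).symm

end Extend

variable {A : Type u} [CommRing A]

/-- Homology of `P ⊗ N` for a chain resolution is that of the cochain resolution. -/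
noncomputable def homologyTensorIso {M : ModuleCat.{u} A} (P : ProjectiveResolution M) (N : ModuleCat.{u} A)
    (n : ℕ) : (((tensorRight N).mapHomologicalComplex (ComplexShape.down ℕ)).obj P.complex).homology n ≅
      (DRing.tensorCx P.cochainComplex N).homology (-(n : ℤ)) :=
  (extendHomologyIso (((tensorRight N).mapHomologicalComplex (ComplexShape.down ℕ)).obj P.complex)
    ComplexShape.embeddingDownNat (j := n) (j' := -(n : ℤ)) rfl).symm ≪≫
    homologyMapIso (mapExtendIso (tensorRight N) P.complex ComplexShape.embeddingDownNat).symm (-(n : ℤ))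

/-- Balancing on cochain resolutions. -/
theorem nonempty_homology_swap {P Q : DRing.Cx A} {M N : ModuleCat.{u} A}
    (q : P ⟶ (single (ModuleCat.{u} A) (ComplexShape.up ℤ) 0).obj M)
    (q' : Q ⟶ (single (ModuleCat.{u} A) (ComplexShape.up ℤ) 0).obj N)
    [QuasiIso q] [QuasiIso q'] (hP : KF.IsKFlat P) (hQ : KF.IsKFlat Q) (i : ℤ) :
    Nonempty ((DRing.tensorCx P N).homology i ≅ (DRing.tensorCx Q M).homology i) := by
  haveI : QuasiIso (((KF.tensorCx (R := A)).obj P).map q') := KF.quasiIso_tensor_map_of_isKFlat q' P hP
  haveI : QuasiIso (((KF.tensorCx (R := A)).obj Q).map q) := KF.quasiIso_tensor_map_of_isKFlat q Q hQ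
  exact ⟨homologyMapIso (KF.singleIso P N) i ≪≫
    (isoOfQuasiIsoAt (((KF.tensorCx (R := A)).obj P).map q') i).symm ≪≫
    homologyMapIso (KF.tensorCxSymm Q P) i ≪≫
    isoOfQuasiIsoAt (((KF.tensorCx (R := A)).obj Q).map q) i ≪≫
    (homologyMapIso (KF.singleIso Q M) i).symm⟩

/-- `Tor` through a resolution of the second variable. -/
noncomputable def torIso (M : ModuleCat.{u} A) {N : ModuleCat.{u} A} (Q : ProjectiveResolution N) (n : ℕ) :
    ((CategoryTheory.Tor (ModuleCat.{u} A) n).obj M).obj N ≅
      (((tensorRight M).mapHomologicalComplex (ComplexShape.down ℕ)).obj Q.complex).homology n :=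
  Q.isoLeftDerivedObj (tensorLeft M) n ≪≫
    homologyMapIso ((NatIso.mapHomologicalComplex (BraidedCategory.tensorLeftIsoTensorRight M)
      (ComplexShape.down ℕ)).app Q.complex) n

/-- **Balancing of Tor.** -/
theorem nonempty_tor_iso {M : ModuleCat.{u} A} (P : ProjectiveResolution M) (N : ModuleCat.{u} A) (n : ℕ) :
    Nonempty (((CategoryTheory.Tor (ModuleCat.{u} A) n).obj M).obj N ≅
      (((tensorRight N).mapHomologicalComplex (ComplexShape.down ℕ)).obj P.complex).homology n) := by
  let Q := projectiveResolution N
  obtain ⟨e⟩ := @nonempty_homology_swap _ _ P.cochainComplex Q.cochainComplex M N P.π' Q.π'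
    (inferInstanceAs (QuasiIso P.π')) (inferInstanceAs (QuasiIso Q.π'))
    (KF.isKFlat_cochainComplex P) (KF.isKFlat_cochainComplex Q) (-(n : ℤ))
  exact ⟨torIso M Q n ≪≫ homologyTensorIso Q M n ≪≫ e.symm ≪≫ (homologyTensorIso P N n).symm⟩

end GrothLib.TorBal22
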