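import Groth.Agent.Lib.LC.Colim
import Groth.Agent.Lib.KillHom.Basic
import Groth.Agent.Lib.TorBal22.Basic
import Mathlib.CategoryTheory.Abelian.LeftDerived

/-! # Tor commutes with filtered colimits -/

set_option autoImplicit false
universe u

open CategoryTheory CategoryTheory.Limits MonoidalCategory

namespace GrothLib.TorBal22

variable {A : Type u} [CommRing A] {J : Type u} [SmallCategory J] [IsFiltered J]

/-- Homology of a family of short complexes commuting termwise with filtered colimits. -/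
theorem preservesColimitsOfShape_homology (Φ : ModuleCat.{u} A ⥤ ShortComplex (ModuleCat.{u} A))
    (h₁ : PreservesColimitsOfShape J (Φ ⋙ ShortComplex.π₁))
    (h₂ : PreservesColimitsOfShape J (Φ ⋙ ShortComplex.π₂))
    (h₃ : PreservesColimitsOfShape J (Φ ⋙ ShortComplex.π₃)) :
    PreservesColimitsOfShape J (Φ ⋙ ShortComplex.homologyFunctor (ModuleCat.{u} A)) := by
  have hg : ∀ {M N : ModuleCat.{u} A} (f : M ⟶ N) (y : (Φ.obj M).X₂),
      (Φ.obj N).g ((Φ.map f).τ₂ y) = (Φ.map f).τ₃ ((Φ.obj M).g y) := fun f y => congr($((Φ.map f).comm₂₃) y)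
  have hf : ∀ {M N : ModuleCat.{u} A} (f : M ⟶ N) (y : (Φ.obj M).X₁),
      (Φ.obj N).f ((Φ.map f).τ₁ y) = (Φ.map f).τ₂ ((Φ.obj M).f y) := fun f y => congr($((Φ.map f).comm₁₂) y)
  have hi : ∀ {M N : ModuleCat.{u} A} (f : M ⟶ N) (z : (Φ.obj M).cycles),
      (Φ.obj N).iCycles (ShortComplex.cyclesMap (Φ.map f) z) = (Φ.map f).τ₂ ((Φ.obj M).iCycles z) :=
    fun f z => congr($(ShortComplex.cyclesMap_i (Φ.map f)) z)
  have hπ : ∀ {M N : ModuleCat.{u} A} (f : M ⟶ N) (z : (Φ.obj M).cycles),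
      ShortComplex.homologyMap (Φ.map f) ((Φ.obj M).homologyπ z) =
        (Φ.obj N).homologyπ (ShortComplex.cyclesMap (Φ.map f) z) :=
    fun f z => congr($(ShortComplex.homologyπ_naturality (Φ.map f)) z)
  have hrep : ∀ (S : ShortComplex (ModuleCat.{u} A)) (x : S.homology), ∃ z, S.homologyπ z = x := fun S x =>
    (ModuleCat.epi_iff_surjective S.homologyπ).1 inferInstance x
  have hcyc : ∀ (S : ShortComplex (ModuleCat.{u} A)) (x : S.X₂), S.g x = 0 → ∃ z, S.iCycles z = x := fun S x hx =>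
    (ShortComplex.moduleCat_exact_iff _).1
      (ShortComplex.exact_of_f_is_kernel (ShortComplex.mk _ _ S.iCycles_g) S.cyclesIsKernel) x hx
  refine LC.preservesColimitsOfShape_of_elements _ (fun F c hc x => ?_) (fun F c hc j x hx => ?_)
  · obtain ⟨z, rfl⟩ := hrep (Φ.obj c.pt) x
    obtain ⟨j, y, hy⟩ := LC.exists_rep (isColimitOfPreserves (Φ ⋙ ShortComplex.π₂) hc) ((Φ.obj c.pt).iCycles z)
    change (Φ.map (c.ι.app j)).τ₂ y = _ at hy
    obtain ⟨k, f, hk⟩ := LC.exists_map_eq_zero (isColimitOfPreserves (Φ ⋙ ShortComplex.π₃) hc)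
      (j := j) ((Φ.obj (F.obj j)).g y) (by
        show (Φ.map (c.ι.app j)).τ₃ ((Φ.obj (F.obj j)).g y) = 0
        rw [← hg, hy]
        exact congr($((Φ.obj c.pt).iCycles_g) z))
    change (Φ.map (F.map f)).τ₃ ((Φ.obj (F.obj j)).g y) = 0 at hk
    obtain ⟨z', hz'⟩ := hcyc (Φ.obj (F.obj k)) ((Φ.map (F.map f)).τ₂ y) (by rw [hg, hk])
    refine ⟨k, (Φ.obj (F.obj k)).homologyπ z', (hπ _ _).trans (congrArg _ ?_)⟩
    apply (ModuleCat.mono_iff_injective (Φ.obj c.pt).iCycles).1 inferInstance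
    rw [hi, hz', ← hy]
    exact LC.ι_map (F := F ⋙ Φ ⋙ ShortComplex.π₂) (c := (Φ ⋙ ShortComplex.π₂).mapCocone c) f y
  · obtain ⟨z, rfl⟩ := hrep (Φ.obj (F.obj j)) x
    obtain ⟨w, hw⟩ := (KillHom.homologyπ_eq_zero_iff _ _).1 ((hπ _ z).symm.trans hx)
    rw [hi] at hw
    obtain ⟨l, v, hv⟩ := LC.exists_rep (isColimitOfPreserves (Φ ⋙ ShortComplex.π₁) hc) w
    change (Φ.map (c.ι.app l)).τ₁ v = _ at hv
    let a := IsFiltered.leftToMax j l
    let b := IsFiltered.rightToMax j l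
    obtain ⟨k, f, hk⟩ := LC.exists_map_eq_zero (isColimitOfPreserves (Φ ⋙ ShortComplex.π₂) hc)
      (j := IsFiltered.max j l)
      ((Φ.map (F.map a)).τ₂ ((Φ.obj (F.obj j)).iCycles z) - (Φ.map (F.map b)).τ₂ ((Φ.obj (F.obj l)).f v)) (by
        refine (map_sub (Φ.map (c.ι.app (IsFiltered.max j l))).τ₂.hom _ _).trans (sub_eq_zero.2 ?_)
        refine (LC.ι_map (F := F ⋙ Φ ⋙ ShortComplex.π₂) (c := (Φ ⋙ ShortComplex.π₂).mapCocone c) a _).trans
          (Eq.trans ?_ (LC.ι_map (F := F ⋙ Φ ⋙ ShortComplex.π₂) (c := (Φ ⋙ ShortComplex.π₂).mapCocone c) b _).symm)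
        show (Φ.map (c.ι.app j)).τ₂ ((Φ.obj (F.obj j)).iCycles z) = (Φ.map (c.ι.app l)).τ₂ ((Φ.obj (F.obj l)).f v)
        rw [← hf, hv]
        exact hw.symm)
    replace hk := sub_eq_zero.1 ((map_sub (Φ.map (F.map f)).τ₂.hom _ _).symm.trans hk)
    have e2 : ∀ {p q r : J} (g : p ⟶ q) (g' : q ⟶ r) (y : (Φ.obj (F.obj p)).X₂),
        (Φ.map (F.map g')).τ₂ ((Φ.map (F.map g)).τ₂ y) = (Φ.map (F.map (g ≫ g'))).τ₂ y := fun g g' y => by
      rw [F.map_comp, Φ.map_comp]; rfl
    change (Φ.map (F.map f)).τ₂ ((Φ.map (F.map a)).τ₂ ((Φ.obj (F.obj j)).iCycles z)) =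
      (Φ.map (F.map f)).τ₂ ((Φ.map (F.map b)).τ₂ ((Φ.obj (F.obj l)).f v)) at hk
    rw [e2, e2] at hk
    refine ⟨k, a ≫ f, (hπ _ _).trans ((KillHom.homologyπ_eq_zero_iff _ _).2
      ⟨(Φ.map (F.map (b ≫ f))).τ₁ v, ?_⟩)⟩
    rw [hf, hi, hk]

/-- Homology of complexes commuting termwise with filtered colimits. -/
theorem preservesColimitsOfShape_homologyFunctor {ι : Type} (c : ComplexShape ι)
    (Φ : ModuleCat.{u} A ⥤ HomologicalComplex (ModuleCat.{u} A) c)
    (h : ∀ i, PreservesColimitsOfShape J (Φ ⋙ HomologicalComplex.eval _ c i)) (p : ι) :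
    PreservesColimitsOfShape J (Φ ⋙ HomologicalComplex.homologyFunctor _ c p) :=
  preservesColimitsOfShape_homology (Φ ⋙ HomologicalComplex.shortComplexFunctor _ c p)
    (h (c.prev p)) (h p) (h (c.next p))

/-- Tensoring a fixed complex. -/
noncomputable def tensorChain (Q : ChainComplex (ModuleCat.{u} A) ℕ) :
    ModuleCat.{u} A ⥤ ChainComplex (ModuleCat.{u} A) ℕ where
  obj M := (((curriedTensor (ModuleCat.{u} A)).obj M).mapHomologicalComplex (ComplexShape.down ℕ)).obj Q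
  map f := (NatTrans.mapHomologicalComplex ((curriedTensor (ModuleCat.{u} A)).map f) (ComplexShape.down ℕ)).app Q

/-- `Tor` in the first variable through a fixed resolution of the second. -/
noncomputable def torFlipIso (p : ℕ) {N : ModuleCat.{u} A} (Q : ProjectiveResolution N) :
    (CategoryTheory.Tor (ModuleCat.{u} A) p).flip.obj N ≅
      tensorChain Q.complex ⋙ HomologicalComplex.homologyFunctor (ModuleCat.{u} A) (ComplexShape.down ℕ) p :=
  NatIso.ofComponents (fun M => Q.isoLeftDerivedObj (tensorLeft M) p) fun {M M'} f => by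
    refine (congrArg (· ≫ (Q.isoLeftDerivedObj (tensorLeft M') p).hom)
      (ProjectiveResolution.leftDerived_app_eq ((curriedTensor (ModuleCat.{u} A)).map f) Q p)).trans ?_
    exact (Category.assoc _ _ _).trans (congrArg ((Q.isoLeftDerivedObj (tensorLeft M) p).hom ≫ ·)
      ((Category.assoc _ _ _).trans ((congrArg (_ ≫ ·) (Iso.inv_hom_id _)).trans (Category.comp_id _))))

theorem preservesColimitsOfShape_tor_flip (p : ℕ) (N : ModuleCat.{u} A) :
    PreservesColimitsOfShape J ((CategoryTheory.Tor (ModuleCat.{u} A) p).flip.obj N) := by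
  have h := preservesColimitsOfShape_homologyFunctor (J := J) (ComplexShape.down ℕ)
    (tensorChain (projectiveResolution N).complex) (fun i =>
      inferInstanceAs (PreservesColimitsOfShape J
        ((curriedTensor (ModuleCat.{u} A)).flip.obj ((projectiveResolution N).complex.X i)))) p
  exact preservesColimitsOfShape_of_natIso (torFlipIso p (projectiveResolution N)).symm

end GrothLib.TorBal22
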