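import Groth.Agent.Lib.TorBal22.Colim
import Mathlib.Algebra.Homology.HomologySequenceLemmas
import Mathlib.RingTheory.Flat.Basic
import Mathlib.Algebra.Category.ModuleCat.Projective

/-! # Tor commutes with filtered colimits in the second variable -/

set_option autoImplicit false
universe u

open CategoryTheory CategoryTheory.Limits MonoidalCategory

namespace GrothLib.TorBal22

variable {A : Type u} [CommRing A]

instance (Q : ChainComplex (ModuleCat.{u} A) ℕ) : (tensorChain Q).PreservesZeroMorphisms where
  map_zero M N := by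
    ext i : 1
    exact (((curriedTensor (ModuleCat.{u} A)).flip.obj (Q.X i)).map_zero M N)

variable (S : ShortComplex (ModuleCat.{u} A))

theorem shortExact_tensorChain (hS : S.ShortExact) (Q : ChainComplex (ModuleCat.{u} A) ℕ)
    (hQ : ∀ i, Module.Flat A (Q.X i)) : (S.map (tensorChain Q)).ShortExact := by
  refine HomologicalComplex.shortExact_of_degreewise_shortExact _ fun i => ?_
  have := hQ i
  have hf := (ModuleCat.mono_iff_injective S.f).1 hS.mono_f
  have hg := (ModuleCat.epi_iff_surjective S.g).1 hS.epi_g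
  have he : Function.Exact S.f.hom S.g.hom :=
    (ShortComplex.ShortExact.moduleCat_exact_iff_function_exact S).1 hS.exact
  exact
    { exact := (ShortComplex.ShortExact.moduleCat_exact_iff_function_exact _).2
        (Module.Flat.rTensor_exact (Q.X i) he)
      mono_f := (ModuleCat.mono_iff_injective _).2
        (Module.Flat.rTensor_preserves_injective_linearMap S.f.hom hf)
      epi_g := (ModuleCat.epi_iff_surjective _).2 (LinearMap.rTensor_surjective (Q.X i) hg) }

theorem exactAt_tensorChain (F : ModuleCat.{u} A) [Module.Flat A F] (Q : ChainComplex (ModuleCat.{u} A) ℕ) (p : ℕ)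
    (h : Q.ExactAt (p + 1)) : ((tensorChain Q).obj F).ExactAt (p + 1) := by
  rw [HomologicalComplex.exactAt_iff' _ (p + 2) (p + 1) p (by simp) (by simp),
    ShortComplex.ShortExact.moduleCat_exact_iff_function_exact] at h ⊢
  exact Module.Flat.lTensor_exact (F : Type u) h

/-- Change of the resolution. -/
noncomputable def tensorChainHom {Q Q' : ChainComplex (ModuleCat.{u} A) ℕ} (φ : Q ⟶ Q') :
    S.map (tensorChain Q) ⟶ S.map (tensorChain Q') where
  τ₁ := ((tensorLeft S.X₁).mapHomologicalComplex (ComplexShape.down ℕ)).map φ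
  τ₂ := ((tensorLeft S.X₂).mapHomologicalComplex (ComplexShape.down ℕ)).map φ
  τ₃ := ((tensorLeft S.X₃).mapHomologicalComplex (ComplexShape.down ℕ)).map φ
  comm₁₂ := by
    ext i : 1
    exact whisker_exchange S.f (φ.f i)
  comm₂₃ := by
    ext i : 1
    exact whisker_exchange S.g (φ.f i)

variable {S} (hS : S.ShortExact) [Module.Flat A S.X₂]

section Resolution

variable {N : ModuleCat.{u} A} (Q : ProjectiveResolution N) (p : ℕ)

theorem flat_resolution (i : ℕ) : Module.Flat A (Q.complex.X i) :=
  have : Module.Projective A (Q.complex.X i) :=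
    (IsProjective.iff_projective (R := A) (Q.complex.X i)).2 (Q.projective i)
  inferInstance

/-- The connecting map, through a resolution. -/
noncomputable def delta : ((tensorChain Q.complex).obj S.X₃).homology (p + 1) ⟶
    ((tensorChain Q.complex).obj S.X₁).homology p :=
  (shortExact_tensorChain S hS Q.complex (flat_resolution Q)).δ (p + 1) p rfl

theorem mono_delta : Mono (delta hS Q p) :=
  (shortExact_tensorChain S hS Q.complex (flat_resolution Q)).mono_δ (p + 1) p rfl
    ((HomologicalComplex.exactAt_iff_isZero_homology _ _).1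
      (exactAt_tensorChain S.X₂ Q.complex p ((HomologicalComplex.exactAt_iff' _ (p + 2) (p + 1) p (by simp) (by simp)).2 (Q.exact_succ p))))

end Resolution

theorem preservesColimitsOfShape_tor (J : Type u) [SmallCategory J] [IsFiltered J] (p : ℕ) :
    ∀ M : ModuleCat.{u} A, PreservesColimitsOfShape J ((CategoryTheory.Tor (ModuleCat.{u} A) (p)).obj M) := by
  induction p with
  | zero =>
    intro M
    exact preservesColimitsOfShape_of_natIso (tensorLeft M).leftDerivedZeroIsoSelf.symm
  | succ p ih =>
    intro M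
    let π : ModuleCat.of A ((M : Type u) →₀ A) ⟶ M := ModuleCat.ofHom (Finsupp.linearCombination A id)
    have : Epi π := (ModuleCat.epi_iff_surjective π).2 fun x => ⟨Finsupp.single x 1, by simp [π]⟩
    let S := ShortComplex.mk (kernel.ι π) π (kernel.condition π)
    have hS : S.ShortExact := { exact := ShortComplex.exact_of_f_is_kernel _ (kernelIsKernel π) }
    have : Module.Flat A S.X₂ := inferInstanceAs (Module.Flat A ((M : Type u) →₀ A))
    let R := fun N : ModuleCat.{u} A => projectiveResolution N
    let δ : ∀ N, ((CategoryTheory.Tor (ModuleCat.{u} A) (p + 1)).obj S.X₃).obj N ⟶ ((CategoryTheory.Tor (ModuleCat.{u} A) (p)).obj S.X₁).obj N := fun N =>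
      ((R N).isoLeftDerivedObj (tensorLeft S.X₃) (p + 1)).hom ≫ delta hS (R N) p ≫
        ((R N).isoLeftDerivedObj (tensorLeft S.X₁) p).inv
    have hmono : ∀ N, Mono (δ N) := fun N => by
      have := mono_delta hS (R N) p
      exact mono_comp' inferInstance (mono_comp' this inferInstance)
    have hnat : ∀ {N N' : ModuleCat.{u} A} (g : N ⟶ N'),
        ((CategoryTheory.Tor (ModuleCat.{u} A) (p + 1)).obj S.X₃).map g ≫ δ N' = δ N ≫ ((CategoryTheory.Tor (ModuleCat.{u} A) (p)).obj S.X₁).map g := fun {N N'} g => by
      let φ := ProjectiveResolution.lift g (R N) (R N')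
      have hφ : φ.f 0 ≫ (R N').π.f 0 = (R N).π.f 0 ≫ g :=
        ProjectiveResolution.lift_commutes_zero g (R N) (R N')
      have h := HomologicalComplex.HomologySequence.δ_naturality (tensorChainHom S φ)
        (shortExact_tensorChain S hS (R N).complex (flat_resolution (R N)))
        (shortExact_tensorChain S hS (R N').complex (flat_resolution (R N'))) (p + 1) p rfl
      refine ((Category.assoc _ _ _).symm.trans (congrArg (· ≫ _)
        (ProjectiveResolution.isoLeftDerivedObj_hom_naturality g (R N) (R N') φ hφ (tensorLeft S.X₃) (p + 1)))).trans ?_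
      refine Eq.trans ?_ ((congrArg (_ ≫ ·) ((Category.assoc _ _ _).trans (congrArg (_ ≫ ·)
        (ProjectiveResolution.isoLeftDerivedObj_inv_naturality g (R N) (R N') φ hφ (tensorLeft S.X₁) p).symm))).trans
          (by rfl))
      refine (Category.assoc _ _ _).trans (congrArg (_ ≫ ·) ?_)
      refine (Category.assoc _ _ _).symm.trans ((congrArg (· ≫ _) h.symm).trans ?_)
      exact Category.assoc _ _ _
    let ν : (CategoryTheory.Tor (ModuleCat.{u} A) (p)).obj S.X₁ ⟶ (CategoryTheory.Tor (ModuleCat.{u} A) (p)).obj S.X₂ := (CategoryTheory.Tor (ModuleCat.{u} A) (p)).map S.f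
    have hrange : ∀ N (y : ((CategoryTheory.Tor (ModuleCat.{u} A) (p)).obj S.X₁).obj N), ν.app N y = 0 → ∃ x, δ N x = y := fun N y hy => by
      have hE := (shortExact_tensorChain S hS (R N).complex (flat_resolution (R N))).homology_exact₁ (p + 1) p rfl
      have hν : ν.app N = _ :=
        ProjectiveResolution.leftDerived_app_eq ((curriedTensor (ModuleCat.{u} A)).map S.f) (R N) p
      let i₁ := (R N).isoLeftDerivedObj (tensorLeft S.X₁) p
      let i₂ := (R N).isoLeftDerivedObj (tensorLeft S.X₂) p
      let m := (HomologicalComplex.homologyFunctor (ModuleCat.{u} A) (ComplexShape.down ℕ) p).map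
        ((tensorChain (R N).complex).map S.f)
      have hm : m (i₁.hom y) = 0 := by
        rw [hν] at hy
        change i₂.inv (m (i₁.hom y)) = 0 at hy
        exact (ModuleCat.mono_iff_injective i₂.inv).1 inferInstance (hy.trans (map_zero _).symm)
      obtain ⟨x, hx⟩ := (ShortComplex.moduleCat_exact_iff _).1 hE (i₁.hom y) hm
      refine ⟨((R N).isoLeftDerivedObj (tensorLeft S.X₃) (p + 1)).inv x, ?_⟩
      show i₁.inv (delta hS (R N) p (((R N).isoLeftDerivedObj (tensorLeft S.X₃) (p + 1)).hom
        (((R N).isoLeftDerivedObj (tensorLeft S.X₃) (p + 1)).inv x))) = y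
      rw [show ((R N).isoLeftDerivedObj (tensorLeft S.X₃) (p + 1)).hom
          (((R N).isoLeftDerivedObj (tensorLeft S.X₃) (p + 1)).inv x) = x from
        congr($(((R N).isoLeftDerivedObj (tensorLeft S.X₃) (p + 1)).inv_hom_id) x)]
      exact (congrArg i₁.inv hx).trans congr($(i₁.hom_inv_id) y)
    have hνδ : ∀ N x, ν.app N (δ N x) = 0 := fun N x => by
      have hν : ν.app N = _ :=
        ProjectiveResolution.leftDerived_app_eq ((curriedTensor (ModuleCat.{u} A)).map S.f) (R N) p
      have h0 := (shortExact_tensorChain S hS (R N).complex (flat_resolution (R N))).δ_comp (p + 1) p rfl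
      have : δ N ≫ ν.app N = 0 := by
        rw [hν]
        let i₃ := (R N).isoLeftDerivedObj (tensorLeft S.X₃) (p + 1)
        let i₁ := (R N).isoLeftDerivedObj (tensorLeft S.X₁) p
        let i₂ := (R N).isoLeftDerivedObj (tensorLeft S.X₂) p
        let m := (HomologicalComplex.homologyFunctor (ModuleCat.{u} A) (ComplexShape.down ℕ) p).map
          ((tensorChain (R N).complex).map S.f)
        have h0' : delta hS (R N) p ≫ m = 0 := h0
        show (i₃.hom ≫ delta hS (R N) p ≫ i₁.inv) ≫ i₁.hom ≫ m ≫ i₂.inv = 0
        refine (Category.assoc _ _ _).trans ((congrArg (i₃.hom ≫ ·) ((Category.assoc _ _ _).trans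
          ((congrArg (delta hS (R N) p ≫ ·) (i₁.inv_hom_id_assoc _)).trans ?_))).trans comp_zero)
        exact (Category.assoc _ _ _).symm.trans ((congrArg (· ≫ i₂.inv) h0').trans zero_comp)
      exact congr($this x)
    have := ih S.X₁
    have := ih S.X₂
    have hnat' : ∀ {N N' : ModuleCat.{u} A} (g : N ⟶ N') x,
        δ N' (((CategoryTheory.Tor (ModuleCat.{u} A) (p + 1)).obj S.X₃).map g x) = ((CategoryTheory.Tor (ModuleCat.{u} A) (p)).obj S.X₁).map g (δ N x) := fun g x => congr($(hnat g) x)
    have hinj : ∀ N, Function.Injective (δ N) := fun N => (ModuleCat.mono_iff_injective _).1 (hmono N)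
    refine LC.preservesColimitsOfShape_of_elements ((CategoryTheory.Tor (ModuleCat.{u} A) (p + 1)).obj S.X₃) (fun F c hc x => ?_) (fun F c hc j x hx => ?_)
    · obtain ⟨j, y, hy⟩ := LC.exists_rep (isColimitOfPreserves ((CategoryTheory.Tor (ModuleCat.{u} A) (p)).obj S.X₁) hc) (δ c.pt x)
      change ((CategoryTheory.Tor (ModuleCat.{u} A) (p)).obj S.X₁).map (c.ι.app j) y = _ at hy
      obtain ⟨k, f, hk⟩ := LC.exists_map_eq_zero (isColimitOfPreserves ((CategoryTheory.Tor (ModuleCat.{u} A) (p)).obj S.X₂) hc)
        (j := j) (ν.app (F.obj j) y) (by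
          show ((CategoryTheory.Tor (ModuleCat.{u} A) (p)).obj S.X₂).map (c.ι.app j) (ν.app (F.obj j) y) = 0
          refine (congr($(ν.naturality (c.ι.app j)) y)).symm.trans ?_
          exact (congrArg (ν.app c.pt) hy).trans (hνδ c.pt x))
      obtain ⟨x', hx'⟩ := hrange (F.obj k) (((CategoryTheory.Tor (ModuleCat.{u} A) (p)).obj S.X₁).map (F.map f) y)
        ((congr($(ν.naturality (F.map f)) y)).trans hk)
      refine ⟨k, x', hinj _ ((hnat' _ _).trans ?_)⟩
      rw [hx', ← hy]
      exact LC.ι_map (F := F ⋙ (CategoryTheory.Tor (ModuleCat.{u} A) (p)).obj S.X₁) (c := ((CategoryTheory.Tor (ModuleCat.{u} A) (p)).obj S.X₁).mapCocone c) f y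
    · obtain ⟨k, f, hk⟩ := LC.exists_map_eq_zero (isColimitOfPreserves ((CategoryTheory.Tor (ModuleCat.{u} A) (p)).obj S.X₁) hc)
        (j := j) (δ (F.obj j) x) ((hnat' (c.ι.app j) x).symm.trans ((congrArg _ hx).trans (map_zero _)))
      exact ⟨k, f, hinj _ (((hnat' (F.map f) x).trans hk).trans (map_zero _).symm)⟩

end GrothLib.TorBal22
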